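import Mathlib
import Groth.Agent.H3.UnionEtaleProps
import Groth.Agent.H3.NormalColim
import Groth.Agent.H20.EtaleNormal

/-!
# Local rings of a flat union of étale images over a normal ring are domains
-/

set_option autoImplicit false
set_option linter.style.haveILetI false
universe u

namespace Groth.Agent.H78.NormSH

open Groth.Agent.H3 Groth.Agent.H3.UnionEtale

/-- **Local rings of ind-étale algebras over a normal ring are domains.** -/
theorem isDomain_localization_of_isUnion (N : Type u) [CommRing N]
    (hN : ∀ P : PrimeSpectrum N, IsDomain (Localization.AtPrime P.asIdeal) ∧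
      IsIntegrallyClosed (Localization.AtPrime P.asIdeal))
    (B : Type u) [CommRing B] [Algebra N B] [Module.Flat N B] (hU : IsUnion N B)
    (m : Ideal B) [m.IsPrime] : IsDomain (Localization.AtPrime m) := by
  classical
  refine NormalColim.isDomain_of_forall_finset fun s => ?_
  -- choose numerators and denominators
  have hrep : ∀ x : Localization.AtPrime m, ∃ (b : B) (t : m.primeCompl),
      x = IsLocalization.mk' (Localization.AtPrime m) b t := fun x => by
    obtain ⟨b, t, h⟩ := IsLocalization.exists_mk'_eq m.primeCompl x
    exact ⟨b, t, h.symm⟩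
  choose nb nt hnt using hrep
  let s' : Finset B := s.image nb ∪ s.image (fun x => (nt x : B))
  obtain ⟨N', _, _, hN', φ, hφ⟩ := hU.finset s'
  let Q : Ideal N' := m.comap φ.toRingHom
  haveI hQ : Q.IsPrime := Ideal.comap_isPrime _ _
  let p : Ideal N := Q.under N
  haveI hp : p.IsPrime := Ideal.comap_isPrime _ _
  haveI hQp : Q.LiesOver p := ⟨rfl⟩
  obtain ⟨hd, hic⟩ := hN ⟨p, hp⟩
  haveI := hd
  haveI := hic
  obtain ⟨hdQ, -⟩ := Groth.Agent.H20.isDomain_and_isIntegrallyClosed_localization_of_etale
    (R := N) (S := N') p Q
  let ψ : Localization.AtPrime Q →+* Localization.AtPrime m :=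
    Localization.localRingHom Q m φ.toRingHom rfl
  refine ⟨Localization.AtPrime Q, inferInstance, hdQ, ψ, ?_, ?_⟩
  · -- injectivity from flatness
    letI : Algebra N' B := φ.toRingHom.toAlgebra
    haveI : IsScalarTower N N' B := IsScalarTower.of_algebraMap_eq fun x => (φ.commutes x).symm
    haveI : Module.Flat N' B := Groth.Agent.H3.FlatOfEtale.flat_of_etale N N' B
    have hflat : φ.toRingHom.Flat := by
      rw [RingHom.Flat]
      convert (inferInstance : Module.Flat N' B)
    have hψflat : ψ.Flat := RingHom.Flat.localRingHom hflat m Q rfl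
    letI : Algebra (Localization.AtPrime Q) (Localization.AtPrime m) := ψ.toAlgebra
    haveI : Module.Flat (Localization.AtPrime Q) (Localization.AtPrime m) := hψflat
    haveI : IsLocalHom (algebraMap (Localization.AtPrime Q) (Localization.AtPrime m)) :=
      Localization.isLocalHom_localRingHom Q m φ.toRingHom rfl
    haveI : Module.FaithfullyFlat (Localization.AtPrime Q) (Localization.AtPrime m) :=
      Module.FaithfullyFlat.of_flat_of_isLocalHom
    exact FaithfulSMul.algebraMap_injective (Localization.AtPrime Q) (Localization.AtPrime m)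
  · intro x hx
    have hx' : x ∈ s := hx
    have h1 : nb x ∈ Set.range φ := hφ (by
      simp only [s', Finset.coe_union, Finset.coe_image]
      exact Or.inl ⟨x, hx', rfl⟩)
    have h2 : (nt x : B) ∈ Set.range φ := hφ (by
      simp only [s', Finset.coe_union, Finset.coe_image]
      exact Or.inr ⟨x, hx', rfl⟩)
    obtain ⟨b', hb'⟩ := h1
    obtain ⟨t', ht'⟩ := h2
    have ht'Q : t' ∈ Q.primeCompl := by
      intro h
      have : φ t' ∈ m := h
      rw [ht'] at this
      exact (nt x).2 this
    refine ⟨IsLocalization.mk' (Localization.AtPrime Q) b' ⟨t', ht'Q⟩, ?_⟩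
    rw [hnt x]
    change Localization.localRingHom Q m φ.toRingHom rfl _ = _
    rw [Localization.localRingHom_mk']
    congr 1
    exact Subtype.ext ht'

end Groth.Agent.H78.NormSH
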