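import Mathlib
import Groth.Agent.S0499
import Groth.Agent.H14.HensProp.Unibranch3

/-!
# Domains integral over a henselian local ring are local
-/

set_option autoImplicit false
set_option linter.style.haveILetI false
universe u

namespace Groth.Agent.H78.NormSH

open IsLocalRing

/-- A domain integral over a henselian local ring is local. -/
theorem isLocalRing_of_isIntegral_of_isDomain (S : Type u) [CommRing S] [HenselianLocalRing S]
    (R : Type u) [CommRing R] [IsDomain R] [Algebra S R] [Algebra.IsIntegral S R] :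
    IsLocalRing R := by
  apply IsLocalRing.of_isUnit_or_isUnit_one_sub_self
  intro x
  let C : Subalgebra S R := Algebra.adjoin S {x}
  haveI : Module.Finite S C :=
    Module.Finite.iff_fg.mpr (Algebra.IsIntegral.isIntegral (R := S) x).fg_adjoin_singleton
  obtain ⟨ι, _, T, _, hloc, ⟨φ⟩⟩ := Groth.Agent.S0499.result S C
  haveI : IsLocalRing C :=
    Groth.Agent.H14.HensProp.isLocalRing_of_ringEquiv_pi_of_isDomain C ι T hloc φ
  have hx : x ∈ C := Algebra.subset_adjoin rfl
  rcases IsLocalRing.isUnit_or_isUnit_one_sub_self (⟨x, hx⟩ : C) with h | h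
  · left
    exact h.map C.val
  · right
    have := h.map C.val
    simpa using this

/-- In a ring integral over a henselian local ring, every prime lies in exactly one maximal
ideal. -/
theorem existsUnique_isMaximal_ge (S : Type u) [CommRing S] [HenselianLocalRing S]
    (R : Type u) [CommRing R] (f : S →+* R) (hf : f.IsIntegral) (q : Ideal R) [q.IsPrime] :
    ∃! m : Ideal R, m.IsMaximal ∧ q ≤ m := by
  letI : Algebra S (R ⧸ q) := ((Ideal.Quotient.mk q).comp f).toAlgebra
  haveI : Algebra.IsIntegral S (R ⧸ q) := by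
    have h1 : ((Ideal.Quotient.mk q).comp f).IsIntegral :=
      RingHom.IsIntegral.trans _ _ hf
        (RingHom.isIntegral_of_surjective _ Ideal.Quotient.mk_surjective)
    exact ⟨h1⟩
  haveI : IsLocalRing (R ⧸ q) := isLocalRing_of_isIntegral_of_isDomain S (R ⧸ q)
  refine ⟨(maximalIdeal (R ⧸ q)).comap (Ideal.Quotient.mk q), ⟨?_, ?_⟩, ?_⟩
  · exact Ideal.comap_isMaximal_of_surjective _ Ideal.Quotient.mk_surjective
  · intro x hx
    rw [Ideal.mem_comap, Ideal.Quotient.eq_zero_iff_mem.mpr hx]
    exact Ideal.zero_mem _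
  · rintro m ⟨hm, hqm⟩
    have hM : ((maximalIdeal (R ⧸ q)).comap (Ideal.Quotient.mk q)).IsMaximal :=
      Ideal.comap_isMaximal_of_surjective _ Ideal.Quotient.mk_surjective
    have hle : m ≤ (maximalIdeal (R ⧸ q)).comap (Ideal.Quotient.mk q) := by
      intro x hx
      rw [Ideal.mem_comap, IsLocalRing.mem_maximalIdeal, mem_nonunits_iff]
      intro hu
      obtain ⟨y, hy⟩ := hu.exists_right_inv
      obtain ⟨y', rfl⟩ := Ideal.Quotient.mk_surjective y
      rw [← map_mul, ← map_one (Ideal.Quotient.mk q), Ideal.Quotient.eq] at hy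
      have h1 : x * y' - 1 ∈ m := hqm hy
      have h2 : x * y' ∈ m := m.mul_mem_right _ hx
      have h3 : (1 : R) ∈ m := by
        have := m.sub_mem h2 h1
        simpa using this
      exact hm.ne_top ((Ideal.eq_top_iff_one _).mpr h3)
    exact hm.eq_of_le hM.ne_top hle

end Groth.Agent.H78.NormSH
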