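import Mathlib
import Groth.Prelude.Def_Hensel
import Groth.Prelude.Def_CAlg2
import Groth.Agent.H78.NormSH.Domain
import Groth.Agent.H78.NormSH.IntLocal
import Groth.Agent.H38.TotalFrac3
import Groth.Agent.H38.BranchSum2
import Groth.Agent.H3.HensUnion
import Groth.Agent.H3.UnionEtaleWeakly
import Groth.Agent.H14.HensProp.UniqueMin

/-!
# Minimal primes and maximal ideals of `normRed A ⊗ A^sh`
-/

set_option autoImplicit false
set_option linter.style.haveILetI false
universe u

namespace Groth.Agent.H78.NormSH

open IsLocalRing TensorProduct Groth.Agent.H3.UnionEtale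

/-- two minimal primes inside a prime with domain localization coincide -/
theorem minimalPrimes_eq_of_isDomain_localization {R : Type*} [CommRing R] (m : Ideal R)
    [m.IsPrime] [IsDomain (Localization.AtPrime m)] {q : Ideal R} (hq : q ∈ minimalPrimes R)
    (hqm : q ≤ m) : q = RingHom.ker (algebraMap R (Localization.AtPrime m)) := by
  haveI : q.IsPrime := hq.1.1
  have hK : (RingHom.ker (algebraMap R (Localization.AtPrime m))).IsPrime := RingHom.ker_isPrime _
  have hle : RingHom.ker (algebraMap R (Localization.AtPrime m)) ≤ q := by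
    intro x hx
    rw [RingHom.mem_ker, IsLocalization.map_eq_zero_iff m.primeCompl] at hx
    obtain ⟨s, hs⟩ := hx
    have h1 : (s : R) * x ∈ q := by rw [hs]; exact q.zero_mem
    rcases (inferInstance : q.IsPrime).mem_or_mem h1 with h | h
    · exact absurd (hqm h) s.2
    · exact h
  exact le_antisymm (hq.2 ⟨hK, bot_le⟩ hle) hle

/-- the abstract form: `N` normal, `F` a flat union of étale images over `A`, henselian local,
`N` integral over `A`. -/
theorem main_abstract (A N F : Type u) [CommRing A] [CommRing N] [CommRing F] [Algebra A N]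
    [Algebra A F] [Algebra.IsIntegral A N] [HenselianLocalRing F] [Module.Flat A F]
    (hU : IsUnion A F)
    (hN : ∀ P : PrimeSpectrum N, IsDomain (Localization.AtPrime P.asIdeal) ∧
      IsIntegrallyClosed (Localization.AtPrime P.asIdeal)) :
    (∀ q ∈ minimalPrimes (N ⊗[A] F),
        ∃! m : Ideal (N ⊗[A] F), m.IsMaximal ∧ q ≤ m) ∧
      (∀ m : Ideal (N ⊗[A] F), m.IsMaximal →
        ∃! q : Ideal (N ⊗[A] F), q ∈ minimalPrimes (N ⊗[A] F) ∧ q ≤ m) := by
  constructor
  · intro q hq
    haveI : q.IsPrime := hq.1.1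
    have hint : (Algebra.TensorProduct.includeRight.toRingHom : F →+* N ⊗[A] F).IsIntegral := by
      have h1 : (algebraMap F (F ⊗[A] N)).IsIntegral :=
        algebraMap_isIntegral_iff.mpr inferInstance
      have h2 : ((Algebra.TensorProduct.comm A F N).toRingEquiv.toRingHom).IsIntegral :=
        RingHom.isIntegral_of_surjective _ (Algebra.TensorProduct.comm A F N).surjective
      have h3 := RingHom.IsIntegral.trans _ _ h1 h2
      have heq : (Algebra.TensorProduct.includeRight.toRingHom : F →+* N ⊗[A] F) =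
          ((Algebra.TensorProduct.comm A F N).toRingEquiv.toRingHom).comp
            (algebraMap F (F ⊗[A] N)) := by
        ext x
        simp [Algebra.TensorProduct.algebraMap_apply]
      rw [heq]
      exact h3
    exact existsUnique_isMaximal_ge F (N ⊗[A] F) _ hint q
  · intro m hm
    haveI : m.IsPrime := hm.isPrime
    have hUB : IsUnion N (N ⊗[A] F) := hU.baseChange N
    haveI : IsDomain (Localization.AtPrime m) :=
      isDomain_localization_of_isUnion N hN (N ⊗[A] F) hUB m
    obtain ⟨q, hq, hqm⟩ := Ideal.exists_minimalPrimes_le (bot_le : (⊥ : Ideal (N ⊗[A] F)) ≤ m)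
    refine ⟨q, ⟨hq, hqm⟩, ?_⟩
    rintro q' ⟨hq', hq'm⟩
    rw [minimalPrimes_eq_of_isDomain_localization m hq hqm,
      minimalPrimes_eq_of_isDomain_localization m hq' hq'm]

/-- **S9305.** -/
theorem main {A Ash : Type u} [CommRing A] [IsLocalRing A] (hfin : (minimalPrimes A).Finite)
    [CommRing Ash] [IsLocalRing Ash] [Algebra A Ash] [IsLocalHom (algebraMap A Ash)]
    [Hensel.IsStrictHenselization A Ash] :
    (∀ q ∈ minimalPrimes ((CAlg2.normRed A) ⊗[A] Ash),
        ∃! m : Ideal ((CAlg2.normRed A) ⊗[A] Ash), m.IsMaximal ∧ q ≤ m) ∧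
      (∀ m : Ideal ((CAlg2.normRed A) ⊗[A] Ash), m.IsMaximal →
        ∃! q : Ideal ((CAlg2.normRed A) ⊗[A] Ash),
          q ∈ minimalPrimes ((CAlg2.normRed A) ⊗[A] Ash) ∧ q ≤ m) := by
  have hSH : Hensel.IsStrictHenselization A Ash := inferInstance
  obtain ⟨hU, hff⟩ := Groth.Agent.H3.HensUnion.package (Or.inr hSH)
  haveI : Module.Flat A Ash := hff.toFlat
  haveI : HenselianLocalRing Ash := hSH.henselian
  haveI hredR : IsReduced (CAlg2.red A) :=
    (Ideal.isRadical_iff_quotient_reduced _).mp (Ideal.radical_isRadical _)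
  haveI : Finite (Groth.Agent.H38.MinPrime (CAlg2.red A)) :=
    Groth.Agent.H38.finite_minPrime_red A hfin
  haveI : Algebra.IsIntegral A (CAlg2.red A) := Groth.Agent.H14.HensProp.UniqueMin.isIntegral_red A
  haveI : Algebra.IsIntegral (CAlg2.red A) (CAlg2.normRed A) := inferInstance
  haveI : Algebra.IsIntegral A (CAlg2.normRed A) := Algebra.IsIntegral.trans (CAlg2.red A)
  exact main_abstract A (CAlg2.normRed A) Ash hU
    (fun P => Groth.Agent.H38.localization_integralClosure (A := CAlg2.red A) P)

end Groth.Agent.H78.NormSH
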